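import Groth.Agent.Lib.UnrMono.FieldDim
import Mathlib.RingTheory.Kaehler.JacobiZariski
import Mathlib.RingTheory.Smooth.Basic

/-!
# Differentials of a subfield inside those of a separable extension
-/

set_option autoImplicit false
universe u

open TensorProduct

namespace GrothLib.DiffRank4

variable (R κ L : Type u) [Field R] [Field κ] [Field L] [Algebra R κ] [Algebra R L] [Algebra κ L]
  [IsScalarTower R κ L] [Algebra.EssFiniteType R κ] [Algebra.EssFiniteType R L] [Algebra.FormallySmooth κ L]

theorem mapBaseChange_injective : Function.Injective (KaehlerDifferential.mapBaseChange R κ L) := by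
  haveI : Subsingleton (Algebra.H1Cotangent κ L) := Algebra.FormallySmooth.subsingleton_h1Cotangent
  refine (injective_iff_map_eq_zero _).2 fun z hz => ?_
  obtain ⟨w, rfl⟩ := (Algebra.H1Cotangent.exact_δ_mapBaseChange R κ L z).1 hz
  rw [Subsingleton.elim w 0, map_zero]

/-- A space containing the differentials of the subfield has dimension at least its transcendence degree. -/
theorem trdeg_le_finrank {m : ℕ} (hm : (m : Cardinal.{u}) ≤ Algebra.trdeg R κ) (S : Submodule L Ω[L⁄R])
    (h : ∀ a : κ, KaehlerDifferential.D R L (algebraMap κ L a) ∈ S) : m ≤ Module.finrank L S := by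
  have hle : LinearMap.range (KaehlerDifferential.mapBaseChange R κ L) ≤ S := by
    rintro _ ⟨z, rfl⟩
    induction z using TensorProduct.induction_on with
    | zero => rw [map_zero]; exact zero_mem _
    | tmul l w =>
      rw [KaehlerDifferential.mapBaseChange_tmul]
      refine S.smul_mem l ?_
      have hw : w ∈ Submodule.span κ (Set.range (KaehlerDifferential.D R κ)) := by
        rw [KaehlerDifferential.span_range_derivation]; trivial
      induction hw using Submodule.span_induction with
      | mem y hy => obtain ⟨a, rfl⟩ := hy; rw [KaehlerDifferential.map_D]; exact h a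
      | zero => rw [map_zero]; exact zero_mem _
      | add y z _ _ hy hz => rw [map_add]; exact add_mem hy hz
      | smul c y _ hy => rw [map_smul, ← algebraMap_smul L c]; exact S.smul_mem _ hy
    | add y z hy hz => rw [map_add]; exact add_mem hy hz
  have h1 : m ≤ Module.finrank κ Ω[κ⁄R] :=
    Nat.cast_le.1 (hm.trans (GrothLib.UnrMono.trdeg_le_finrank_kaehler R κ))
  rw [← Module.finrank_baseChange (R := L)] at h1
  refine h1.trans ((LinearMap.finrank_range_of_inj (mapBaseChange_injective R κ L)).symm.le.trans ?_)
  exact Submodule.finrank_mono hle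

/-- A family whose span has dimension at least `m` has `m` linearly independent members. -/
theorem exists_linearIndependent_sub {V : Type u} [AddCommGroup V] [Module L V] {d m : ℕ} (w : Fin d → V)
    (h : m ≤ Module.finrank L (Submodule.span L (Set.range w))) :
    ∃ a : Fin m → Fin d, LinearIndependent L (w ∘ a) := by
  obtain ⟨ι, a, ha, hsp, hli⟩ := exists_linearIndependent' L w
  haveI : Finite ι := Finite.of_injective a ha
  haveI := Fintype.ofFinite ι
  have hc : Module.finrank L (Submodule.span L (Set.range (w ∘ a))) = Fintype.card ι :=
    finrank_span_eq_card hli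
  rw [hsp] at hc
  obtain ⟨e⟩ := Function.Embedding.nonempty_of_card_le
    (show Fintype.card (Fin m) ≤ Fintype.card ι by rw [Fintype.card_fin, ← hc]; exact h)
  exact ⟨a ∘ e, hli.comp e e.injective⟩

/-- The combination, for rings that are fields. -/
theorem exists_linearIndependent_of_isField (R κ L : Type u) [CommRing R] [Field κ] [CommRing L] (hR : IsField R)
    (hL : IsField L) [Algebra R κ] [Algebra R L] [Algebra κ L] [IsScalarTower R κ L]
    [Algebra.EssFiniteType R κ] [Algebra.EssFiniteType R L] [Algebra.FormallySmooth κ L] {m : ℕ}
    (hm : (m : Cardinal.{u}) ≤ Algebra.trdeg R κ) {d : ℕ} (w : Fin d → Ω[L⁄R])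
    (hD : ∀ a : κ, KaehlerDifferential.D R L (algebraMap κ L a) ∈ Submodule.span L (Set.range w)) :
    ∃ a : Fin m → Fin d, LinearIndependent L (w ∘ a) := by
  letI := hR.toField
  letI := hL.toField
  exact exists_linearIndependent_sub L w (trdeg_le_finrank R κ L hm _ hD)

end GrothLib.DiffRank4
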