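import Groth.Agent.Lib.DiffRank4.Field
import Groth.Agent.Lib.Chev28.SmoothDense
import Groth.Agent.Lib.Altitude.Fibre
import Groth.Agent.Lib.ConStalk4.Stalk
import Groth.Agent.Lib.FinCov.Frame
import Groth.Agent.Lib.CotTangent.Scheme
import Groth.Prelude.Def_Omega3
import Mathlib

/-!
# The generic rank of pulled back differentials
-/

set_option autoImplicit false
set_option linter.style.haveILetI false
set_option backward.isDefEq.respectTransparency false
set_option maxHeartbeats 1000000

universe u

open CategoryTheory CategoryTheory.Limits AlgebraicGeometry Opposite TopologicalSpace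
open GrothLib GrothLib.OmegaUniv

noncomputable section

namespace GrothLib.DiffRank4

variable {k : Type u} [Field k] {X Z : Scheme.{u}} [IsIntegral X] (f : X ⟶ Z)
  (pZ : Z ⟶ Spec (CommRingCat.of k))

theorem bijective_toStalk (K : Type u) [Field K] (x : PrimeSpectrum K) :
    Function.Bijective (StructureSheaf.toStalk K x).hom := by
  have h := (IsLocalization.atUnits K (S := (Spec.structureSheaf K).presheaf.stalk x) x.asIdeal.primeCompl
    (fun a ha => IsUnit.mk0 _ fun h => ha (h ▸ zero_mem _))).bijective
  exact h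

theorem isField_stalk_genericPoint : IsField (X.presheaf.stalk (genericPoint X)) :=
  Field.toIsField X.functionField

/-- The residue field of the image of the generic point, inside the function field. -/
def resMap : Z.residueField (f (genericPoint X)) ⟶ X.presheaf.stalk (genericPoint X) :=
  CommRingCat.ofHom (Ideal.Quotient.lift _ (f.stalkMap (genericPoint X)).hom fun a ha => by
    by_contra hne
    exact (mem_nonunits_iff.1 ((IsLocalRing.mem_maximalIdeal a).1 ha)) (IsUnit.of_map (f.stalkMap (genericPoint X)).hom a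
      ((isUnit_iff_ne_zero (G₀ := X.functionField)).2 hne)))

theorem residue_resMap : Z.residue (f (genericPoint X)) ≫ resMap f = f.stalkMap (genericPoint X) := rfl

variable [LocallyOfFinitePresentation f]

/-- For a geometrically reduced generic fibre, the function field is separable over the residue field. -/
theorem formallySmooth_resMap
    (hsep : GeometricallyReduced (f.fiberToSpecResidueField (f (genericPoint X)))) :
    (resMap f).hom.FormallySmooth := by
  let η := genericPoint X
  let z := f.asFiber η
  let j : Spec (Z.residueField (f η)) ⟶ Z := Z.fromSpecResidueField (f η)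
  let q : f.fiber (f η) ⟶ Spec (CommRingCat.of (IsLocalRing.ResidueField (Z.presheaf.stalk (f η)))) :=
    f.fiberToSpecResidueField (f η)
  haveI : GeometricallyReduced q := hsep
  haveI : LocallyOfFinitePresentation q :=
    MorphismProperty.pullback_snd (P := @LocallyOfFinitePresentation) f _ inferInstance
  have hzmax : ∀ w, w ⤳ z → w = z := fun w hw => by
    apply (f.fiberι (f η)).isEmbedding.injective
    have h := hw.map (f.fiberι (f η)).continuous
    rw [Scheme.Hom.fiberι_asFiber] at h ⊢
    exact (h.antisymm (genericPoint_specializes _)).eq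
  have hq : (q.stalkMap z).hom.FormallySmooth :=
    GrothLib.SepPts.mem_smoothLocus_of_maximal (k := IsLocalRing.ResidueField (Z.presheaf.stalk (f η))) q hzmax
  -- descend along the bijective stalk maps
  let ι := f.fiberι (f η)
  have hι : Function.Bijective (ι.stalkMap z) := by
    refine GrothLib.Chev28.bijective_stalkMap_of_isField _ _ ?_
    rw [Scheme.Hom.fiberι_asFiber]
    exact isField_stalk_genericPoint
  have key : ∀ (y : X) (hy : ι z = y) (hfy : y = η),
      ∀ (S₀ : CommRingCat.{u}) (c : S₀ ⟶ (f.fiber (f η)).presheaf.stalk z) (ψ : Z.presheaf.stalk (f (ι z)) ⟶ S₀),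
        c.hom.FormallySmooth → Function.Surjective ψ → IsField S₀ → ψ ≫ c = f.stalkMap (ι z) ≫ ι.stalkMap z →
        (resMap f).hom.FormallySmooth := by
    rintro _ rfl hfy S₀ c ψ hc hψ hS₀ hcomm
    let e := RingEquiv.ofBijective (ι.stalkMap z).hom hι
    let σ : X.presheaf.stalk (ι z) ⟶ X.presheaf.stalk η :=
      (X.presheaf.stalkCongr (.of_eq hfy)).hom
    have hσ : Function.Bijective σ.hom := ConcreteCategory.bijective_of_isIso σ
    let ψ' : Z.presheaf.stalk (f η) ⟶ S₀ := (Z.presheaf.stalkCongr (.of_eq (by rw [hfy]))).hom ≫ ψ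
    have hψ' : Function.Surjective ψ' := hψ.comp (ConcreteCategory.bijective_of_isIso _).surjective
    let d : S₀ →+* X.presheaf.stalk η := (σ.hom.comp e.symm.toRingHom).comp c.hom
    have hd : d.FormallySmooth :=
      hc.comp ((RingHom.FormallySmooth.of_bijective (f := e.symm.toRingHom) e.symm.bijective).comp
        (RingHom.FormallySmooth.of_bijective hσ))
    have hde : ∀ a, d (ψ'.hom a) = (f.stalkMap η).hom a := by
      intro a
      show σ.hom (e.symm (c.hom (ψ.hom ((Z.presheaf.stalkCongr (.of_eq (by rw [hfy]))).hom.hom a)))) = _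
      rw [show c.hom (ψ.hom ((Z.presheaf.stalkCongr (.of_eq (by rw [hfy]))).hom.hom a)) =
        e ((f.stalkMap (ι z)).hom ((Z.presheaf.stalkCongr (.of_eq (by rw [hfy]))).hom.hom a)) from
        congrArg (fun g => g.hom ((Z.presheaf.stalkCongr (.of_eq (by rw [hfy]))).hom.hom a)) hcomm,
        RingEquiv.symm_apply_apply]
      refine congrArg (fun g => g.hom a) (?_ : (Z.presheaf.stalkCongr (.of_eq (by rw [hfy]))).hom ≫
        f.stalkMap (ι z) ≫ σ = f.stalkMap η)
      simp only [σ, TopCat.Presheaf.stalkCongr_hom]
      rw [← Scheme.Hom.stalkSpecializes_stalkMap f η (ι z) (specializes_of_eq hfy.symm),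
        TopCat.Presheaf.stalkSpecializes_comp_assoc]
      simp
    let _ : Field S₀ := hS₀.toField
    have hmax : ∀ a ∈ IsLocalRing.maximalIdeal (Z.presheaf.stalk (f η)), ψ'.hom a = 0 := by
      intro a ha
      have hk : RingHom.ker ψ'.hom = IsLocalRing.maximalIdeal _ :=
        IsLocalRing.eq_maximalIdeal (RingHom.ker_isMaximal_of_surjective ψ'.hom hψ')
      exact RingHom.mem_ker.1 (hk ▸ ha)
    let e₀ : Z.residueField (f η) →+* S₀ := Ideal.Quotient.lift _ ψ'.hom hmax
    have he₀ : Function.Bijective e₀ :=
      ⟨RingHom.injective e₀, fun s => let ⟨a, ha⟩ := hψ' s; ⟨Z.residue (f η) a, ha⟩⟩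
    have : (resMap f).hom = d.comp e₀ := Ideal.Quotient.ringHom_ext (RingHom.ext fun a => (hde a).symm)
    rw [this]
    exact (RingHom.FormallySmooth.of_bijective he₀).comp hd
  refine key _ rfl (Scheme.Hom.fiberι_asFiber f η) _ (q.stalkMap z)
    ((Z.presheaf.stalkCongr (.of_eq ?_)).hom ≫ j.stalkMap (q z)) hq ?_ ?_ ?_
  · exact (congrArg (fun g => g z) (pullback.condition (f := f) (g := j))).symm ▸ rfl
  · exact ((j.stalkMap_surjective (q z)).comp (ConcreteCategory.bijective_of_isIso
      (Z.presheaf.stalkCongr _).hom).surjective)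
  · exact MulEquiv.isField (Field.toIsField (IsLocalRing.ResidueField (Z.presheaf.stalk (f η))))
      (RingEquiv.ofBijective (StructureSheaf.toStalk _ _).hom (by
        exact bijective_toStalk _ _)).symm.toMulEquiv
  · have h1 := Scheme.Hom.stalkMap_congr_hom (ι ≫ f) (q ≫ j) pullback.condition z
    rw [Scheme.Hom.stalkMap_comp, Scheme.Hom.stalkMap_comp] at h1
    rw [h1]
    simp

variable [LocallyOfFiniteType pZ]

/-- The transcendence degree of the residue field is the dimension of the closure. -/
theorem le_trdeg (z : Z) (m : ℕ) (hm : topologicalKrullDim (closure {z} : Set Z) = m) :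
    letI := ((pZ.stalkMap z) ≫ Z.residue z).hom.toAlgebra
    (m : Cardinal.{u}) ≤ Algebra.trdeg ((Spec (CommRingCat.of k)).presheaf.stalk (pZ z)) (Z.residueField z) := by
  obtain ⟨n, h1, h2⟩ := GrothLib.AffDom.exists_dim_closure pZ z
  obtain rfl : n = m := by
    rw [hm] at h1
    exact_mod_cast h1.symm
  letI := ((pZ.stalkMap z) ≫ Z.residue z).hom.toAlgebra
  let a : k →+* (Spec (CommRingCat.of k)).presheaf.stalk (pZ z) :=
    ((Scheme.ΓSpecIso (CommRingCat.of k)).inv ≫ (Spec (CommRingCat.of k)).presheaf.germ ⊤ (pZ z) trivial).hom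
  have hres : (algebraMap ((Spec (CommRingCat.of k)).presheaf.stalk (pZ z)) (Z.residueField z)).comp a =
      GrothLib.AffDom.toRes pZ z := by
    refine congrArg CommRingCat.Hom.hom (?_ : CommRingCat.ofHom a ≫ pZ.stalkMap z ≫ Z.residue z =
      CommRingCat.ofHom (GrothLib.AffDom.toRes pZ z))
    apply Spec.map_injective
    rw [GrothLib.AffDom.SpecMap_toRes, Spec.map_comp, Spec.map_comp, Category.assoc]
    rw [show Spec.map (CommRingCat.ofHom a) = (Spec (CommRingCat.of k)).fromSpecStalk (pZ z) from
      (Spec.fromSpecStalk_eq _ _).symm, Scheme.SpecMap_stalkMap_fromSpecStalk]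
    rfl
  rw [← h2]
  unfold GrothLib.AffDom.ptTrdeg
  letI := (GrothLib.AffDom.toRes pZ z).toAlgebra
  haveI : FaithfulSMul k (Z.residueField z) :=
    (faithfulSMul_iff_algebraMap_injective _ _).2 (RingHom.injective _)
  have hbij : Function.Bijective a := bijective_toStalk _ _
  have hfield : IsField ((Spec (CommRingCat.of k)).presheaf.stalk (pZ z)) :=
    MulEquiv.isField (Field.toIsField k) (RingEquiv.ofBijective a hbij).symm.toMulEquiv
  let _ := hfield.toField
  refine le_of_eq ?_
  exact GrothLib.Altitude.trdeg_congr_hom (algebraMap ((Spec (CommRingCat.of k)).presheaf.stalk (pZ z)) (Z.residueField z))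
    a (RingHom.id (Z.residueField z)) hres hbij.1 Function.injective_id
    (fun w => let ⟨r, hr⟩ := hbij.2 w; ⟨r, 1, by simp, by simp [hr]⟩)
    (fun w => ⟨w, 1, by simp, by simp⟩)

end GrothLib.DiffRank4
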