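import Groth.Agent.Lib.DiffRank4.Main

/-!
# Independent differentials coming from a free pullback
-/

set_option autoImplicit false
set_option linter.style.haveILetI false
set_option backward.isDefEq.respectTransparency false
set_option maxHeartbeats 1000000

universe u

open CategoryTheory CategoryTheory.Limits AlgebraicGeometry Opposite TopologicalSpace
open GrothLib GrothLib.OmegaUniv
open GrothLib.ConStalk4 (stalkLin stalkLin_germ)

noncomputable section

namespace GrothLib.DiffRank4

/-- A free module is generated by the germs of its standard sections. -/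
theorem exists_spanning_sections {X : Scheme.{u}} {M : X.Modules} {d : ℕ} (e : M ≅ FlatMod.freeMod X d) (x : X) :
    ∃ s : Fin d → Γ(M, ⊤), Submodule.span (X.presheaf.stalk x)
      (Set.range fun i => (OX.germ (DCoh.toP.obj M) ⊤ trivial (s i) : St x M)) = ⊤ := by
  let a : ∀ i, Coh.structureModule X ⟶ M := fun i =>
    Sigma.ι (fun _ : Fin d => Coh.structureModule X) i ≫ e.inv
  refine ⟨fun i => (a i).app ⊤ (FinCov.one X ⊤), eq_top_iff.2 fun w _ => ?_⟩
  obtain ⟨V, hV, m, rfl⟩ := OX.germ_exists _ w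
  have h : m = ∑ i, (a i).app V ((FinCov.proj X d i).app V (e.hom.app V m)) := by
    have h1 : e.hom ≫ (𝟙 (FlatMod.freeMod X d)) ≫ e.inv = 𝟙 M := by simp
    rw [← FinCov.sum_proj_ι (X := X) d] at h1
    refine (congr($(h1).app V m)).symm.trans ?_
    show e.inv.app V ((∑ i, FinCov.proj X d i ≫ Sigma.ι (fun _ : Fin d => Coh.structureModule X) i).app V
      (e.hom.app V m)) = _
    rw [FinCov.sum_app, map_sum]
    rfl
  rw [h]
  refine (congrArg (· ∈ Submodule.span (X.presheaf.stalk x) _)
    (map_sum (OX.germ (DCoh.toP.obj M) V hV) _ Finset.univ)).mpr (Submodule.sum_mem _ fun i _ => ?_)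
  have hc : ∀ c : Γ(X, V), (a i).app V (c : Γ(Coh.structureModule X, V)) =
      c • M.presheaf.map (homOfLE le_top).op ((a i).app ⊤ (FinCov.one X ⊤)) := fun c => by
    rw [← FinCov.smul_one V c, Scheme.Modules.Hom.app_smul, FinCov.smul_one]
    congr 1
    refine Eq.trans ?_ (congr($((Scheme.Modules.Hom.mapPresheaf (a i)).naturality (homOfLE (le_top (a := V))).op)
      (FinCov.one X ⊤)))
    show (a i).app V (FinCov.one X V) = (a i).app V _
    congr 1
    exact (map_one (X.presheaf.map (homOfLE le_top).op).hom).symm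
  rw [hc ((FinCov.proj X d i).app V (e.hom.app V m))]
  refine (congrArg (· ∈ Submodule.span (X.presheaf.stalk x) _) (OX.germ_smul' (DCoh.toP.obj M) V hV _ _)).mpr
    (Submodule.smul_mem _ _ (Submodule.subset_span ⟨i, ?_⟩))
  exact (OX.germ_map (DCoh.toP.obj M) (homOfLE le_top) hV _).symm

variable {k : Type u} [Field k] {X Z : Scheme.{u}} [IsIntegral X] (f : X ⟶ Z)
  (pZ : Z ⟶ Spec (CommRingCat.of k)) [LocallyOfFinitePresentation f] [LocallyOfFiniteType pZ]

attribute [local instance] OmegaUniv.stalkAlg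

theorem exists_linearIndependent_germs
    (hsep : GeometricallyReduced (f.fiberToSpecResidueField (f (genericPoint X)))) (m : ℕ)
    (hm : topologicalKrullDim (closure {f (genericPoint X)} : Set Z) = m)
    {ΩZ : Z.Modules} (dZ : OmegaSh.Der pZ ΩZ)
    {ΩX : X.Modules} {dX : OmegaSh.Der (f ≫ pZ) ΩX} (hX : OmegaSh.IsUniversal dX)
    (c : (Scheme.Modules.pullback f).obj ΩZ ⟶ ΩX) (hc : OmegaSh.IsDiffCompat f dZ dX c)
    {d : ℕ} (e : (Scheme.Modules.pullback f).obj ΩZ ≅ FlatMod.freeMod X d) :
    ∃ v : Fin m → Γ(ΩX, ⊤), LinearIndependent (X.presheaf.stalk (genericPoint X))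
      (fun i => (OX.germ (DCoh.toP.obj ΩX) ⊤ trivial (v i) : St (genericPoint X) ΩX)) := by
  let η := genericPoint X
  let P := (f ≫ pZ) η
  let R : Type u := (Spec (CommRingCat.of k)).presheaf.stalk P
  let κ : Type u := Z.residueField (f η)
  let L : Type u := X.presheaf.stalk η
  have hR : IsField R := MulEquiv.isField (Field.toIsField k)
    (RingEquiv.ofBijective (StructureSheaf.toStalk k P).hom (bijective_toStalk k P)).symm.toMulEquiv
  letI : Algebra R L := stalkAlg (f ≫ pZ) η
  letI : Algebra R κ := (pZ.stalkMap (f η) ≫ Z.residue (f η)).hom.toAlgebra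
  letI : Algebra κ L := (resMap f).hom.toAlgebra
  haveI : IsScalarTower R κ L := IsScalarTower.of_algebraMap_eq fun r => by
    show ((f ≫ pZ).stalkMap η).hom r = ((Z.residue (f η)) ≫ resMap f).hom ((pZ.stalkMap (f η)).hom r)
    rw [residue_resMap, Scheme.Hom.stalkMap_comp]
    rfl
  haveI : Algebra.EssFiniteType R L := LocallyOfFiniteType.stalkMap (f ≫ pZ) η
  haveI : Algebra.EssFiniteType R κ := by
    letI : Algebra R (Z.presheaf.stalk (f η)) := (pZ.stalkMap (f η)).hom.toAlgebra
    letI : Algebra (Z.presheaf.stalk (f η)) κ := (Z.residue (f η)).hom.toAlgebra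
    haveI : IsScalarTower R (Z.presheaf.stalk (f η)) κ := IsScalarTower.of_algebraMap_eq fun _ => rfl
    haveI : Algebra.EssFiniteType R (Z.presheaf.stalk (f η)) := LocallyOfFiniteType.stalkMap pZ (f η)
    haveI : Algebra.FiniteType (Z.presheaf.stalk (f η)) κ :=
      Algebra.FiniteType.of_surjective (Algebra.ofId _ _) (Z.residue_surjective (f η))
    exact Algebra.EssFiniteType.comp R (Z.presheaf.stalk (f η)) κ
  haveI : Algebra.FormallySmooth κ L := formallySmooth_resMap f hsep
  obtain ⟨s, hs⟩ := exists_spanning_sections e η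
  let τ : St η ΩX ≃ₗ[L] Ω[L⁄R] := stalkEquiv η hX
  let w : Fin d → Ω[L⁄R] := fun i => τ (stalkLin η c (OX.germ (DCoh.toP.obj _) ⊤ trivial (s i)))
  have hspan : ∀ z : St η ((Scheme.Modules.pullback f).obj ΩZ),
      τ (stalkLin η c z) ∈ Submodule.span L (Set.range w) := fun z => by
    have hz := Submodule.mem_map_of_mem (f := τ.toLinearMap.comp (stalkLin η c)) (hs.ge (Submodule.mem_top (x := z)))
    rw [Submodule.map_span, ← Set.range_comp] at hz
    exact hz
  have hD : ∀ a : κ, KaehlerDifferential.D R L (algebraMap κ L a) ∈ Submodule.span L (Set.range w) := fun a => by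
    obtain ⟨a, rfl⟩ := Z.residue_surjective (f η) a
    obtain ⟨U, hU, t, rfl⟩ := Z.presheaf.exists_germ_eq a
    have := hspan (OX.germ (DCoh.toP.obj _) (f ⁻¹ᵁ U) hU (OmegaSh.pullSect f ΩZ U (dZ.app U t)))
    rw [stalkLin_germ, hc U t] at this
    have h2 : τ (OX.germ (DCoh.toP.obj ΩX) (f ⁻¹ᵁ U) hU (dX.app (f ⁻¹ᵁ U) (f.app U t))) =
        KaehlerDifferential.D R L (X.presheaf.germ (f ⁻¹ᵁ U) η hU (f.app U t)) :=
      stalkEquiv_dg η hX (f ⁻¹ᵁ U) hU (f.app U t)
    rw [h2, ← Scheme.Hom.germ_stalkMap_apply f U η hU t] at this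
    exact this
  obtain ⟨a, ha⟩ := exists_linearIndependent_of_isField R κ L hR (isField_stalk_genericPoint (X := X))
    (le_trdeg pZ (f η) m hm) w hD
  refine ⟨fun i => c.app ⊤ (s (a i)), ?_⟩
  have := ha.map' τ.symm.toLinearMap (LinearMap.ker_eq_bot.2 τ.symm.injective)
  convert this using 1
  funext i
  show _ = τ.symm (τ (stalkLin η c _))
  rw [LinearEquiv.symm_apply_apply, stalkLin_germ]
  rfl

omit [LocallyOfFinitePresentation f] [LocallyOfFiniteType pZ] in
theorem exists_linearIndependent_germs' [LocallyOfFinitePresentation f] [LocallyOfFiniteType pZ]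
    (pX : X ⟶ Spec (CommRingCat.of k)) [LocallyOfFiniteType pX] (w : f ≫ pZ = pX)
    (hsep : GeometricallyReduced (f.fiberToSpecResidueField (f (genericPoint X)))) (m : ℕ)
    (hm : topologicalKrullDim (closure {f (genericPoint X)} : Set Z) = m)
    {ΩZ : Z.Modules} (dZ : OmegaSh.Der pZ ΩZ)
    {ΩX : X.Modules} {dX : OmegaSh.Der pX ΩX} (hX : OmegaSh.IsUniversal dX)
    (c : (Scheme.Modules.pullback f).obj ΩZ ⟶ ΩX) (hc : OmegaSh.IsDiffCompat f dZ dX c)
    {d : ℕ} (e : (Scheme.Modules.pullback f).obj ΩZ ≅ FlatMod.freeMod X d) :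
    ∃ v : Fin m → Γ(ΩX, ⊤), LinearIndependent (X.presheaf.stalk (genericPoint X))
      (fun i => (OX.germ (DCoh.toP.obj ΩX) ⊤ trivial (v i) : St (genericPoint X) ΩX)) := by
  subst w
  exact exists_linearIndependent_germs f pZ hsep m hm dZ hX c hc e

/-- Independence at the generic point gives independence over the functions on an open. -/
theorem linearIndependent_res {ΩX : X.Modules} {m : ℕ} (v : Fin m → Γ(ΩX, ⊤))
    (h : LinearIndependent (X.presheaf.stalk (genericPoint X))
      (fun i => (OX.germ (DCoh.toP.obj ΩX) ⊤ trivial (v i) : St (genericPoint X) ΩX)))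
    (U : X.Opens) : LinearIndependent Γ(X, U) (fun i => ΩX.presheaf.map (homOfLE le_top).op (v i) : Fin m → Γ(ΩX, U)) := by
  rw [Fintype.linearIndependent_iff]
  intro g hg i
  rcases isEmpty_or_nonempty U with hU | hU
  · exact X.sheaf.eq_of_locally_eq' (fun x : U => (⊥ : X.Opens)) U (fun x => homOfLE bot_le)
      (fun y hy => (hU.false ⟨y, hy⟩).elim) _ _ fun x => (hU.false x).elim
  have hη : genericPoint X ∈ U := (genericPoint_specializes hU.some.1).mem_open U.2 hU.some.2
  have h0 := congrArg (OX.germ (DCoh.toP.obj ΩX) U hη) hg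
  rw [map_sum, map_zero] at h0
  have h1 := Fintype.linearIndependent_iff.1 h (fun j => X.presheaf.germ U (genericPoint X) hη (g j)) (by
    refine Eq.trans (Finset.sum_congr rfl fun j _ => ?_) h0
    refine Eq.trans ?_ (OX.germ_smul' (DCoh.toP.obj ΩX) U hη (g j) (ΩX.presheaf.map (homOfLE le_top).op (v j))).symm
    exact congrArg (_ • ·) (OX.germ_map (DCoh.toP.obj ΩX) (homOfLE le_top) hη (v j)).symm) i
  exact AlgebraicGeometry.germ_injective_of_isIntegral X (genericPoint X) hη (h1.trans (map_zero _).symm)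

end GrothLib.DiffRank4
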