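import Groth.Agent.Lib.DiffRank4.Rank
import Groth.Agent.Lib.FBase7.Reduced
import Groth.Agent.Lib.GenericSmooth.Basic
import Groth.Agent.Lib.InvExt.Gen
import Groth.Prelude.Def_ExtPow2
import Groth.Prelude.Def_Pi1
import Mathlib.LinearAlgebra.ExteriorPower.Basis

/-!
# Non-vanishing wedges of generically independent sections
-/

set_option autoImplicit false
set_option linter.style.haveILetI false
set_option backward.isDefEq.respectTransparency false
set_option maxHeartbeats 1000000

universe u

open CategoryTheory CategoryTheory.Limits AlgebraicGeometry Opposite TopologicalSpace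
open GrothLib GrothLib.OmegaUniv
open GrothLib.InvExt (mres)

noncomputable section

namespace GrothLib.DiffRank4

/-- The wedge of vectors that stay independent in a vector space is nonzero. -/
theorem ιMulti_ne_zero {R L M W : Type u} [CommRing R] [CommRing L] (hL : IsField L) [Algebra R L]
    [AddCommGroup M] [Module R M] [AddCommGroup W] [Module R W] [Module L W] [IsScalarTower R L W]
    (θ : M →ₗ[R] W) {m : ℕ} (v : Fin m → M) (hv : LinearIndependent L (θ ∘ v)) :
    exteriorPower.ιMulti R m v ≠ 0 := by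
  intro h
  let φ : M [⋀^Fin m]→ₗ[R] ↥(⋀[L]^m W) :=
    { toFun := fun x => exteriorPower.ιMulti L m (θ ∘ x)
      map_update_add' := by
        intro _ x i a b
        simp only [Function.comp_update, map_add]
        exact (exteriorPower.ιMulti L m).map_update_add _ _ _ _
      map_update_smul' := by
        intro _ x i c a
        simp only [Function.comp_update, map_smul]
        rw [← algebraMap_smul L c (θ a), (exteriorPower.ιMulti L m).map_update_smul, algebraMap_smul]
      map_eq_zero_of_eq' := fun x i j hij hne =>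
        (exteriorPower.ιMulti L m).map_eq_zero_of_eq _ (congrArg θ hij) hne }
  have h1 : exteriorPower.ιMulti L m (θ ∘ v) = 0 := by
    have := congrArg (exteriorPower.alternatingMapLinearEquiv φ) h
    rw [map_zero, exteriorPower.alternatingMapLinearEquiv_apply_ιMulti] at this
    exact this
  letI := hL.toField
  let s : Set.powersetCard (Fin m) m := ⟨Finset.univ, by simp⟩
  have hli := exteriorPower.ιMulti_family_linearIndependent_field (n := m) hv
  refine hli.ne_zero s ?_
  rw [exteriorPower.ιMulti_family]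
  rw [show (θ ∘ v) ∘ ⇑(Set.powersetCard.ofFinEmbEquiv.symm s) = θ ∘ v from ?_]
  · exact h1
  · have : ⇑(Set.powersetCard.ofFinEmbEquiv.symm s) = (id : Fin m → Fin m) := by
      refine (StrictMono.range_inj (Set.powersetCard.ofFinEmbEquiv.symm s).strictMono strictMono_id).1 ?_
      rw [Set.range_id, (Finite.injective_iff_surjective.1
        (Set.powersetCard.ofFinEmbEquiv.symm s).injective).range_eq]
    rw [this]
    rfl

variable {X : Scheme.{u}}

/-- Wedges of global sections glue to a section on every open. -/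
theorem exists_wedge_section {m : ℕ} {E Λ : X.Modules} (hΛ : ExtPow.IsExtPow m E Λ) (v : Fin m → Γ(E, ⊤))
    (U : X.Opens) : ∃ s : Γ(Λ, U), ∀ (φ : ∀ V : X.affineOpens, Γ(Λ, V.1) ≃ₗ[Γ(X, V.1)] ↥(⋀[Γ(X, V.1)]^m Γ(E, V.1))),
      φ = hΛ.choose → ∀ (V : X.affineOpens) (hV : V.1 ≤ U),
        φ V (mres Λ hV s) = exteriorPower.ιMulti Γ(X, V.1) m (fun j => mres E le_top (v j)) := by
  let φ : ∀ V : X.affineOpens, Γ(Λ, V.1) ≃ₗ[Γ(X, V.1)] ↥(⋀[Γ(X, V.1)]^m Γ(E, V.1)) := hΛ.choose
  have hφ : ∀ (T V : X.affineOpens) (h : V.1 ≤ T.1) (e : Fin m → Γ(E, T.1)),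
      mres Λ h ((φ T).symm (exteriorPower.ιMulti Γ(X, T.1) m e)) =
        (φ V).symm (exteriorPower.ιMulti Γ(X, V.1) m (fun j => mres E h (e j))) := hΛ.choose_spec
  let ι := {T : X.affineOpens // T.1 ≤ U}
  let w : ∀ T : X.affineOpens, Γ(Λ, T.1) := fun T =>
    (φ T).symm (exteriorPower.ιMulti Γ(X, T.1) m (fun j => mres E le_top (v j)))
  have hw : ∀ (T V : X.affineOpens) (h : V.1 ≤ T.1), mres Λ h (w T) = w V := fun T V h => by
    rw [hφ T V h]
    simp only [InvExt.mres_mres]
    rfl
  have hcov : U ≤ ⨆ T : ι, T.1.1 := fun x hx => by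
    obtain ⟨T, hT, hxT, hTU⟩ := exists_isAffineOpen_mem_and_subset (X := X) (x := x) (U := U) hx
    exact Opens.mem_iSup.mpr ⟨⟨⟨T, hT⟩, hTU⟩, hxT⟩
  obtain ⟨s, hs, -⟩ := TopCat.Sheaf.existsUnique_gluing' ⟨Λ.presheaf, Λ.isSheaf⟩ (fun T : ι => T.1.1) U
    (fun T => homOfLE T.2) hcov (fun T => w T.1) (by
      intro i j
      choose A hA hxA hAle using fun x : (i.1.1 ⊓ j.1.1 : X.Opens) =>
        exists_isAffineOpen_mem_and_subset (X := X) (x := x.1) (U := i.1.1 ⊓ j.1.1) x.2
      refine TopCat.Sheaf.eq_of_locally_eq' ⟨Λ.presheaf, Λ.isSheaf⟩ A (i.1.1 ⊓ j.1.1) (fun x => homOfLE (hAle x))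
        (fun x hx => Opens.mem_iSup.2 ⟨⟨x, hx⟩, hxA _⟩) _ _ fun x => ?_
      show mres Λ (hAle x) (mres Λ inf_le_left (w i.1)) = mres Λ (hAle x) (mres Λ inf_le_right (w j.1))
      rw [InvExt.mres_mres, InvExt.mres_mres, hw i.1 ⟨A x, hA x⟩, hw j.1 ⟨A x, hA x⟩])
  refine ⟨s, fun ψ hψ V hV => ?_⟩
  subst hψ
  show φ V (mres Λ hV s) = _
  rw [show mres Λ hV s = w V from hs ⟨V, hV⟩]
  exact (φ V).apply_symm_apply _

theorem exists_ne_zero_wedge [IsIntegral X] {m : ℕ} {E Λ : X.Modules} (hΛ : ExtPow.IsExtPow m E Λ)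
    (v : Fin m → Γ(E, ⊤))
    (h : LinearIndependent (X.presheaf.stalk (genericPoint X))
      (fun i => (OX.germ (DCoh.toP.obj E) ⊤ trivial (v i) : St (genericPoint X) E)))
    (U : X.Opens) (hU : genericPoint X ∈ U) : ∃ s : Γ(Λ, U), s ≠ 0 := by
  obtain ⟨s, hs⟩ := exists_wedge_section hΛ v U
  refine ⟨s, fun h0 => ?_⟩
  obtain ⟨T, hT, hηT, hTU⟩ := exists_isAffineOpen_mem_and_subset (X := X) (x := genericPoint X) (U := U) hU
  have h1 := hs _ rfl ⟨T, hT⟩ hTU
  rw [show mres Λ (show T ≤ U from hTU) s = 0 by rw [h0]; exact map_zero _, map_zero] at h1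
  letI : Algebra Γ(X, T) (X.presheaf.stalk (genericPoint X)) := (X.presheaf.germ T _ hηT).hom.toAlgebra
  letI : Module Γ(X, T) (St (genericPoint X) E) := Module.compHom _ (X.presheaf.germ T _ hηT).hom
  haveI : IsScalarTower Γ(X, T) (X.presheaf.stalk (genericPoint X)) (St (genericPoint X) E) :=
    IsScalarTower.of_algebraMap_smul fun _ _ => rfl
  let θ : Γ(E, T) →ₗ[Γ(X, T)] St (genericPoint X) E :=
    { toFun := OX.germ (DCoh.toP.obj E) T hηT
      map_add' := map_add _
      map_smul' := fun r x => OX.germ_smul' (DCoh.toP.obj E) T hηT r x }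
  refine ιMulti_ne_zero (R := Γ(X, T)) (L := X.presheaf.stalk (genericPoint X)) isField_stalk_genericPoint θ
    (fun j => mres E le_top (v j)) ?_ h1.symm
  convert h using 1
  all_goals first
    | rfl
    | skip
  funext j
  exact OX.germ_map (DCoh.toP.obj E) (homOfLE le_top) hηT (v j)

/-- The smooth locus of a geometrically normal scheme contains the generic point. -/
theorem genericPoint_mem_smoothLocus {k : Type u} [Field k] [IsIntegral X] (p : X ⟶ Spec (CommRingCat.of k))
    [LocallyOfFinitePresentation p]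
    (hgn : ∀ (K : Type u) [Field K] [Algebra k K] [IsAlgClosure k K],
      Pi1.IsNormalScheme (pullback p (Spec.map (CommRingCat.ofHom (algebraMap k K))))) :
    genericPoint X ∈ p.smoothLocus := by
  have hn := hgn (AlgebraicClosure k)
  haveI : ∀ w, _root_.IsReduced ((pullback p (Spec.map (CommRingCat.ofHom
      (algebraMap k (AlgebraicClosure k))))).presheaf.stalk w) := fun w => by
    haveI := (hn w).1
    infer_instance
  haveI : AlgebraicGeometry.IsReduced (pullback p (Spec.map (CommRingCat.ofHom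
      (algebraMap k (AlgebraicClosure k))))) := isReduced_of_isReduced_stalk _
  haveI : AlgebraicGeometry.IsReduced (FBase.bc p (AlgebraicClosure k)) :=
    show AlgebraicGeometry.IsReduced (pullback p (Spec.map (CommRingCat.ofHom
      (algebraMap k (AlgebraicClosure k))))) from inferInstance
  haveI : GeometricallyReduced p := FBase7.geometricallyReduced_of_perfect p (AlgebraicClosure k)
  exact GrothLib.SepPts.mem_smoothLocus_of_maximal p fun w hw =>
    (hw.antisymm (genericPoint_specializes w)).eq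

end GrothLib.DiffRank4
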